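import Cfsg.Agent.H80.FpfB.E6Num
import Cfsg.Agent.H844.Fpf.RowsFi
import Cfsg.Agent.H820.ElB
import Cfsg.Agent.CTwoTab.BInst
import Cfsg.Agent.BM.KHAll

/-!
# The row of the Baby Monster

3, 5, 7, 11, 23 are excluded in `Fi23 ≤ B`; 13, 17, 19 in `²E₆(2)`, `2.²E₆(2) ≤ B`.
-/

set_option autoImplicit false
set_option linter.style.haveILetI false

namespace Cfsg.Agent.H80.FpfB

universe u v w

open Cfsg.Agent.H80.Fpf Cfsg.Lie Subgroup

/-- restriction along a central extension, not necessarily perfect -/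
theorem May.of_hom' {S : Type v} [Group S] {r : ℕ} (h : May r S) {H : Type u} [Group H] {T : Type w} [Group T]
    (f : H →* S) (g : H →* T) (hg : Function.Surjective g) (hgc : g.ker ≤ Subgroup.center H)
    (hfg : f.ker ≤ g.ker) (hT : commutator T = ⊤) : May r T := by
  obtain ⟨h1, h2⟩ := perf_commutator hg hgc hT
  refine h.of_hom (f.comp (commutator H).subtype) (g.comp (commutator H).subtype) ?_ ?_ ?_ h1
  · intro t
    have h3 : t ∈ (commutator H).map g := by rw [h2]; trivial
    obtain ⟨x, hx, rfl⟩ := h3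
    exact ⟨⟨x, hx⟩, rfl⟩
  · intro x hx
    have h3 : (x : H) ∈ Subgroup.center H := hgc hx
    rw [Subgroup.mem_center_iff] at h3 ⊢
    intro y
    exact Subtype.ext (h3 y)
  · intro x hx
    exact hfg hx

/-- going down from the Baby Monster to `²E₆(2)` -/
theorem baby_of_e6 {r : ℕ} (h : ∀ (K : Type) [Field K] [Fintype K], Fintype.card K = 4 → ¬ May r ↥(twistedE6 K 2)) :
    ¬ May r Cfsg.Spor.BabyMonster := by
  intro hM
  obtain ⟨K, iF, iT, hK, t, X₀, σ, D, -, -⟩ := CTwoTab.BInst.exists_sec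
  haveI : IsSimpleGroup ↥(twistedE6 K 2) := (Cfsg.Agent.S1070.result Nat.prime_two.isPrimePow (by rw [hK]; norm_num)).1
  have hna := (Cfsg.Agent.S1070.result (K := K) Nat.prime_two.isPrimePow (by rw [hK]; norm_num)).2
  have hT : commutator ↥(twistedE6 K 2) = ⊤ := by
    by_contra hcon
    apply hna
    have hn : (commutator ↥(twistedE6 K 2)).Normal := inferInstance
    rcases hn.eq_bot_or_eq_top with h1 | h1
    · refine ⟨⟨fun a b => ?_⟩⟩
      rw [commutator_def, Subgroup.commutator_eq_bot_iff_le_centralizer] at h1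
      exact (Subgroup.mem_centralizer_iff.1 (h1 (Subgroup.mem_top a)) b (Subgroup.mem_top b)).symm
    · exact absurd h1 hcon
  refine h K hK (May.of_hom' hM X₀.subtype σ D.surj ?_ ?_ hT)
  · intro m hm
    rw [mem_center_iff]
    intro g
    apply Subtype.ext
    rcases (D.ker m).1 hm with h | h
    · show (g : Spor.BabyMonster) * m = m * g
      rw [h, mul_one, one_mul]
    · show (g : Spor.BabyMonster) * m = m * g
      rw [h]
      exact D.comm g g.2
  · rw [(MonoidHom.ker_eq_bot_iff X₀.subtype).2 X₀.subtype_injective]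
    exact bot_le

theorem fi23_perf : commutator Cfsg.Spor.Fi23 = ⊤ := by
  haveI : IsSimpleGroup Cfsg.Spor.Fi23 := Cfsg.Agent.S1697.result.1
  have hc : Nat.card Cfsg.Spor.Fi23 = 4089470473293004800 := Cfsg.Agent.S1697.result.2
  have hn : (commutator Cfsg.Spor.Fi23).Normal := inferInstance
  rcases hn.eq_bot_or_eq_top with h1 | h1
  · exfalso
    rw [commutator_def, Subgroup.commutator_eq_bot_iff_le_centralizer] at h1
    haveI : Finite Cfsg.Spor.Fi23 := Nat.finite_of_card_ne_zero (by rw [hc]; norm_num)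
    let _ : CommGroup Cfsg.Spor.Fi23 := { (inferInstance : Group Cfsg.Spor.Fi23) with
      mul_comm := fun a b => (Subgroup.mem_centralizer_iff.1 (h1 (Subgroup.mem_top a)) b (Subgroup.mem_top b)).symm }
    have hp : (Nat.card Cfsg.Spor.Fi23).Prime := IsSimpleGroup.prime_card
    rw [hc] at hp
    norm_num at hp
  · exact h1

/-- going down from the Baby Monster to `Fi23` -/
theorem baby_of_fi23 {r : ℕ} (h : ¬ May r Cfsg.Spor.Fi23) : ¬ May r Cfsg.Spor.BabyMonster := by
  obtain ⟨f, hf⟩ := Cfsg.Agent.H820.ElB.exists_hom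
  exact H844.Fpf.not_may_of_inj f hf fi23_perf h

/-- **The excluded primes of the Baby Monster.** -/
theorem not_may_b {r : ℕ} (hr : r ∈ [3, 5, 7, 11, 13, 17, 19, 23]) : ¬ May r Cfsg.Spor.BabyMonster := by
  simp only [List.mem_cons, List.not_mem_nil, or_false] at hr
  rcases hr with rfl | rfl | rfl | rfl | rfl | rfl | rfl | rfl
  · exact baby_of_fi23 (H844.Fpf.not_may_of_notAb (by norm_num) (by norm_num)
      (H800.Sp.NotAbRows.fi23_3 ⟨MulEquiv.refl _⟩))
  · exact baby_of_fi23 (H844.Fpf.fi23_of_fi22 H844.Fpf.fi22_5)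
  · exact baby_of_fi23 (H844.Fpf.fi23_of_fi22 H844.Fpf.fi22_7)
  · exact baby_of_fi23 (H844.Fpf.fi23_of_fi22 H844.Fpf.fi22_11)
  · exact baby_of_e6 fun K _ _ hK => e6_13 hK
  · exact baby_of_e6 fun K _ _ hK => e6_17 hK
  · exact baby_of_e6 fun K _ _ hK => e6_19 hK
  · exact baby_of_fi23 H844.Fpf.fi23_23

/-- **The row of the Baby Monster.** -/
theorem row_b : Row Cfsg.Spor.BabyMonster :=
  H844.Fpf.row_by BM.KHAll.card_B 31 47 [2, 3, 5, 7, 11, 13, 17, 19, 23, 31, 47] [3, 5, 7, 11, 13, 17, 19, 23]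
    (by decide +kernel) 41 (by decide +kernel) (by decide) (by decide) fun _ hr => not_may_b hr

end Cfsg.Agent.H80.FpfB
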