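import Cfsg.Agent.H80.FpfB.E6Two
import Cfsg.Agent.H648.Loc.E6Cent
import Cfsg.Agent.H648.Loc.F4Two
import Cfsg.Agent.H378.TwRows
import Cfsg.Agent.H547.SelfCent.Base
import Cfsg.Agent.H631.Fpf.RowTwE6

/-!
# 13, 17, 19 are not fixed point free for `²E₆(2)`
-/

set_option autoImplicit false
set_option linter.style.haveILetI false

namespace Cfsg.Agent.H80.FpfB

universe u v w

open Cfsg.Agent.H80.Fpf Cfsg.Lie Subgroup

/-- the numeric check: all solutions of the Sylow congruence have a small normaliser -/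
def chkN (N s B C : ℕ) : Bool :=
  (List.range (C + 1)).all fun c => (List.range s).all fun e =>
    (c == 0) || (e == 0) || ((s - 1) % e != 0) || (N % (s * c * e) != 0) || (N / (s * c * e) % s != 1) ||
      Nat.ble ((s - 1) * (s * c * e)) (B ^ 2)

theorem not_may_of_num {S : Type u} [Group S] [Finite S] {N s B C : ℕ} (hs : s.Prime) (hs2 : s ≠ 2)
    (hN : Nat.card S = N) (hd : s ∣ N) (hsq : ¬ s * s ∣ N) (hB : MinDeg S B)
    (hC : ∀ x : S, orderOf x = s → Nat.card (centralizer ({x} : Set S)) ≤ s * C) (h : chkN N s B C = true) :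
    ¬ May s S := by
  intro hM
  subst hN
  have : Fact s.Prime := ⟨hs⟩
  obtain ⟨x, hx⟩ := exists_prime_orderOf_dvd_card' s hd
  obtain ⟨e, he, h1, h2, h3, -⟩ := Cfsg.Agent.H547.SelfCent.arith hs hx hsq
  obtain ⟨c, hc⟩ := Cfsg.Agent.H547.SelfCent.dvd_cent hx
  have hlt := hM.lt_of_minDeg hs hs2 hB hx
  have hcC := hC x hx
  rw [hc] at h1 h2 h3 hcC
  rw [h3] at hlt
  have hcC' : c ≤ C := Nat.le_of_mul_le_mul_left hcC hs.pos
  rw [Nat.mod_eq_of_lt hs.one_lt] at h2
  have hs1 := hs.two_le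
  have he0 : e ≠ 0 := by
    rintro rfl
    have := Nat.eq_zero_of_zero_dvd he
    omega
  have hle := Nat.le_of_dvd (by omega) he
  have hc0 : c ≠ 0 := by
    rintro rfl
    have h5 : 0 < Nat.card (centralizer ({x} : Set S)) := Nat.card_pos
    rw [hc, mul_zero] at h5
    exact lt_irrefl _ h5
  unfold chkN at h
  rw [List.all_eq_true] at h
  have h4 := h c (List.mem_range.2 (by omega))
  rw [List.all_eq_true] at h4
  have h5 := h4 e (List.mem_range.2 (by omega))
  simp only [Bool.or_eq_true, beq_iff_eq, bne_iff_ne, Nat.ble_eq] at h5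
  rcases h5 with ((((h5 | h5) | h5) | h5) | h5) | h5
  · exact hc0 h5
  · exact he0 h5
  · exact h5 (Nat.mod_eq_zero_of_dvd he)
  · exact h5 (Nat.mod_eq_zero_of_dvd h1)
  · exact h5 h2
  · omega

section

variable {K : Type} [Field K] [Fintype K] (hK : Fintype.card K = 4)

include hK

theorem e6_13 : ¬ May 13 ↥(twistedE6 K 2) := by
  haveI : Finite ↥(twistedE6 K 2) := Nat.finite_of_card_ne_zero (by rw [Cfsg.Agent.H648.Loc.card_e6 K hK]; norm_num)
  refine not_may_of_num (C := 3) (by norm_num) (by norm_num) (Cfsg.Agent.H648.Loc.card_e6 K hK) (by norm_num)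
    (by norm_num) (minDeg_2E6_two hK) (fun x hx => ?_) (by decide +kernel)
  exact (Cfsg.Agent.H648.Loc.e6_cent hK hx).1

theorem e6_19 : ¬ May 19 ↥(twistedE6 K 2) := by
  haveI : Finite ↥(twistedE6 K 2) := Nat.finite_of_card_ne_zero (by rw [Cfsg.Agent.H648.Loc.card_e6 K hK]; norm_num)
  refine not_may_of_num (C := 3) (by norm_num) (by norm_num) (Cfsg.Agent.H648.Loc.card_e6 K hK) (by norm_num)
    (by norm_num) (minDeg_2E6_two hK) (fun x hx => ?_) (by decide +kernel)
  have h18 : H378.ExcAdj.od 2 19 = 18 := by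
    have h19 : Fact (Nat.Prime 19) := ⟨by norm_num⟩
    refine orderOf_eq_of_pow_and_pow_div_prime (by norm_num) ?_ ?_
    · decide
    · intro p hp hd
      have h1 : p = 2 ∨ p = 3 := by
        have h2 : p ∣ 2 * 3 ^ 2 := by norm_num; exact hd
        rcases hp.dvd_mul.1 h2 with h3 | h3
        · exact Or.inl ((Nat.prime_dvd_prime_iff_eq hp Nat.prime_two).1 h3)
        · exact Or.inr ((Nat.prime_dvd_prime_iff_eq hp Nat.prime_three).1 (hp.dvd_of_dvd_pow h3))
      rcases h1 with rfl | rfl <;> decide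
  have h5 := (Cfsg.Agent.H378.TwRows.cent_2E6 Nat.prime_two.isPrimePow (by rw [hK]; norm_num) (by norm_num) hx h18).2
  rw [Cfsg.Agent.H378.TwRows.eval_cyc18] at h5
  exact Nat.le_of_dvd (by norm_num) h5

theorem e6_17 : ¬ May 17 ↥(twistedE6 K 2) := by
  obtain ⟨hchar, -⟩ := Cfsg.Agent.TwoESix.LeviA.exists_four K hK
  haveI : Fact (Nat.Prime 2) := ⟨Nat.prime_two⟩
  refine Cfsg.Agent.H631.Fpf.not_may_eight_2E6 (p := 2) Nat.prime_two.isPrimePow (by rw [hK]; norm_num) dvd_rfl
    (by norm_num) (by norm_num) ?_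
  have h17 : Fact (Nat.Prime 17) := ⟨by norm_num⟩
  refine orderOf_eq_of_pow_and_pow_div_prime (by norm_num) ?_ ?_
  · decide
  · intro p hp hd
    have h1 : p = 2 := by
      have h2 : p ∣ 2 ^ 3 := by norm_num; exact hd
      exact (Nat.prime_dvd_prime_iff_eq hp Nat.prime_two).1 (hp.dvd_of_dvd_pow h2)
    subst h1
    decide

end

end Cfsg.Agent.H80.FpfB
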